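import Cfsg.Agent.PG.BG7.Trans

/-!
Bender-Glauberman, 7.5 and 7.6: the Thompson transitivity theorem.
-/

set_option autoImplicit false
set_option linter.unusedSectionVars false

open Pointwise Cfsg Cfsg.Lib.Solv

namespace Cfsg.Lib.FT.PG

variable {G : Type*} [Group G] [Dl G] [Finite G]

/-- B & G, Proposition 7.5(a). -/
theorem plength_1_normed_constrained (hG : Ctx G) {p : ℕ} (hp : p.Prime)
    {A : Subgroup G} (hA1 : A ≠ ⊥) (hA : A ∈ MaxElem p (⊤ : Subgroup G))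
    (hpl : ∀ M : Subgroup G, Loc M → PLengthLE p 1 M) (hnc : ¬ IsCyclic A)
    (hd : p ∈ dl G := by dlt) : NormedConstrained A := by
  have := Fact.mk hp
  have hAp := abelem_pgroup (pmaxElem_abelem hA)
  refine ⟨hA1, dg_of_pgroup hAp hd, fun q Q hq hQ h1 hn => dl_of_normed hG hq
    (abelem_abelian (pmaxElem_abelem hA)) hnc (dg_of_pgroup hAp hd) hQ h1 hn,
    fun X Y hAX hX hYX hY hAY => ?_⟩
  rw [piOf_card_of_pgroup hAp hA1] at hY ⊢
  exact plength1_norm_pmaxElem hp (ne_two_of_dl hG hd)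
    (pmaxElemS le_top hA hAX) (mFT_sol hG hX) (hpl X hX) hYX hAY hY

/-- B & G, Proposition 7.5(b). -/
theorem SCN_normed_constrained (hG : Ctx G) {p : ℕ} (hp : p.Prime)
    {P A : Subgroup G} (hP : IsSylowOf p P ⊤) (hA : IsSCN P A) (hA2 : 2 ≤ rank A)
    (hd : p ∈ dl G := by dlt) : NormedConstrained A := by
  have := Fact.mk hp
  have hAP : A ≤ P := (SCN_normal hA).le
  have hPp : IsPGroup p P := Sylow_pgroup hP
  have hAp : IsPGroup p A := hPp.to_le hAP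
  have hAab := SCN_abelian hA
  have hA1 : A ≠ ⊥ := rank_gt0.1 (by omega)
  rw [rank_pgroup hAp] at hA2
  obtain ⟨B, hBA, hBP, hBc⟩ := normal_pgroup (n := 2) hPp (normal_Ohm (p := p) (SCN_normal hA))
    (by rw [card_Ohm1_abelian hAab]; exact Nat.pow_le_pow_right hp.pos hA2)
  have hB : B ∈ Elem p 2 A := ⟨hBA.trans (Ohm_sub _ _), abelemS hBA (Ohm1_abelem hAab), hBc⟩
  have hBA := pnElem_sub hB
  obtain ⟨z, hz, hz1⟩ := trivgPn.1 (X10.center_ne_bot hp hPp (subG1_contra hAP hA1))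
  have hzA : z ∈ A := SCN_center_le hA hz
  have hpelt : ∀ a ∈ A, PiElt {p} a := fun a ha => mem_p_elt (pgroup_iff.2 hAp) ha
  have hAd : DG A := dg_of_pgroup hAp hd
  have hzL : Loc (𝐂₁ z) := loc_cent1 hz1 (hAd.mem hzA)
  have hAC : ∀ a ∈ A, A ≤ 𝐂₁ a := fun a ha => (abelian_le_cent hAab).trans (cent_le_cent1 ha)
  have key : ∀ b ∈ B, b ≠ 1 → ∀ Y : Subgroup G, Y ≤ 𝐂₁ b → IsPiSubgroup {p}ᶜ Y → A ≤ 𝐍 Y →
      Y ≤ piCoreOf {p}ᶜ (𝐂₁ b) := by
    intro b hb hb1 Y hYX hY hAY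
    have hbL : Loc (𝐂₁ b) := loc_cent1 hb1 (hAd.mem (hBA hb))
    have hsol := mFT_sol hG hbL
    have hP₁X : P ⊓ 𝐂 B ≤ 𝐂₁ b := inf_le_right.trans (cent_le_cent1 hb)
    obtain ⟨P₂, hP₂, hP₁₂⟩ := Sylow_superset hP₁X (hPp.to_le inf_le_left)
    have hn : P₂ ≤ 𝐍 (P ⊓ 𝐂 B) := by
      refine pgroup_norm_of_card_le (Sylow_pgroup hP₂) hP₁₂
        (le_trans ?_ (card_le_mul_card_cent_p2Elem hPp hB hBP.norm))
      exact Nat.le_of_dvd (cardG_gt0 P) (pgroup_card_dvd_Hall hP (pHall_pgroup hP₂) le_top)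
    have hZ : centerOf (P ⊓ 𝐂 B) ≤ pPrimePCoreOf p (𝐂₁ b) :=
      odd_p_abelian_constrained (mFT_odd hG _) hsol hP₂ (abelian_center _)
        ⟨inf_le_left.trans hP₁₂, norms_center hn⟩
    have hzW : Subgroup.zpowers z ≤ pPrimePCoreOf p (𝐂₁ b) := by
      refine Subgroup.zpowers_le.2 (hZ ⟨⟨hz.1, centS hBP.le hz.2⟩, centS inf_le_left hz.2⟩)
    have hzY : Subgroup.zpowers z ≤ 𝐍 Y := (Subgroup.zpowers_le.2 hzA).trans hAY
    have hzp : IsPiSubgroup {p} (Subgroup.zpowers z) := pgroup_zpowers.2 (hpelt z hzA)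
    rw [← coprime_cent_prod hzY (p'nat_coprime hY hzp) (Or.inr (solvableS hYX hsol))]
    refine sup_le ?_ ?_
    · refine sub_p'core_of_le_p'p_core ?_ (pgroupS (commg_subl.2 hzY) hY)
      exact (commgSS hYX hzW).trans (commg_subr.2 (p'p_core_normal p _).norm)
    · rw [cent_zpowers]
      refine sub_p'core_of_cent1 hp (hAC b (hBA hb) hzA) (hpelt z hzA) hsol
        (inf_le_left.trans hYX) ?_
      exact SCN_norm_sub_p'core (mFT_odd hG _) (mFT_sol hG hzL)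
        (pHall_subl (le_cent1_iff.2 hz.2) le_top hP) hA inf_le_right (pgroupS inf_le_left hY)
        (normsI hAY (norms_cent1 (hAC z hzA)))
  refine ⟨hA1, hAd, fun q Q hq hQ h1 hn => dl_of_normed hG hq (pnElem_abelian hB)
    (pnElem_not_cyclic hB le_rfl) (hAd.mono hBA) hQ h1 (hBA.trans hn),
    fun X Y hAX hX hYX hY hAY => ?_⟩
  rw [piOf_card_of_pgroup hAp hA1] at hY ⊢
  refine coprime_abelian_gen_cent1 (pnElem_abelian hB) (pnElem_not_cyclic hB le_rfl)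
    (hBA.trans hAY) (p'nat_coprime hY (pgroup_iff.2 (pnElem_pgroup hB))) fun b hb hb1 => ?_
  exact sub_p'core_of_cent1 hp (hAX (hBA hb)) (hpelt b (hBA hb)) (mFT_sol hG hX)
    (inf_le_left.trans hYX) (key b hb hb1 _ inf_le_right (pgroupS inf_le_left hY)
      (normsI hAY (norms_cent1 (hAC b (hBA hb)))))

/-- B & G, Theorem 7.6 (the Thompson Transitivity Theorem). -/
theorem Thompson_transitivity (hG : Ctx G) {p q : ℕ} (hp : p.Prime) (hq : q.Prime)
    (hqp : q ≠ p) {A : Subgroup G} (hA : SCNAt 3 p A) (hd : p ∈ dl G := by dlt) :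
    TransOn (piCoreOf {p}ᶜ (𝐂 A)) (maxInvSubgroups ⊤ A {q}) := by
  have := Fact.mk hp
  obtain ⟨P, hP, hA, hA3⟩ := hA
  have hAp : IsPGroup p A := (Sylow_pgroup hP).to_le (SCN_normal hA).le
  have hA1 : A ≠ ⊥ := rank_gt0.1 (by omega)
  have h := normed_constrained_rank3_trans hG (SCN_normed_constrained hG hp hP hA (by omega)) hq
    (fun h => hqp (eq_of_pgroup_of_dvd hAp hq h))
    (by rwa [centerOf, inf_eq_left.2 (abelian_le_cent (SCN_abelian hA))])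
  rwa [piOf_card_of_pgroup hAp hA1] at h

end Cfsg.Lib.FT.PG
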