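import Cfsg.Agent.PG.BG10.Tools
import Cfsg.Agent.PG.BG7Defs

/-!
Bender-Glauberman, 7.1 - 7.4: transitivity theorems under Hypothesis 7.1.
-/

set_option autoImplicit false
set_option linter.unusedSectionVars false

open Pointwise Cfsg Cfsg.Lib.Solv

namespace Cfsg.Lib.FT.PG

variable {G : Type*} [Group G] [Dl G] [Finite G]

/-- Observation between B & G Hypothesis 7.1 and Lemma 7.1. -/
theorem normed_constrained_Hall (hG : Ctx G) {A : Subgroup G}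
    (hA : NormedConstrained A) :
    IsPiHallOf (piOf (Nat.card A))ᶜ (piCoreOf (piOf (Nat.card A))ᶜ (𝐂 A)) (𝐂 A) := by
  have hC : Loc (𝐂 A) := X10.cent_ne_top hG hA.ne_bot hA.ne_top
  have hN : Loc (𝐍 A) := X10.norm_ne_top hG hA.ne_bot hA.ne_top
  obtain ⟨H, hH⟩ := Hall_exists (piOf (Nat.card A))ᶜ (X10.sol hG hC)
  have h1 : H ≤ piCoreOf (piOf (Nat.card A))ᶜ (𝐍 A) :=
    hA.le_core _ _ (normG A) hN ((pHall_sub hH).trans (cent_sub A)) (pHall_pgroup hH)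
      (cents_norm (centsC.1 (pHall_sub hH)))
  have h2 : H ≤ piCoreOf (piOf (Nat.card A))ᶜ (𝐂 A) :=
    (le_inf h1 (pHall_sub hH)).trans (pcoreS _ (cent_sub A))
  rw [le_antisymm (pcore_sub_Hall hH) h2]
  exact hH

/-- B & G, Lemma 7.1. -/
theorem normed_constrained_meet_trans (hG : Ctx G) {A : Subgroup G}
    (hA : NormedConstrained A) {q : ℕ} (hq : q.Prime) (hqA : ¬ q ∣ Nat.card A)
    {Q₁ Q₂ H : Subgroup G} (hAH : A ≤ H) (hH : Loc H)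
    (h₁ : Q₁ ∈ maxInvSubgroups ⊤ A {q}) (h₂ : Q₂ ∈ maxInvSubgroups ⊤ A {q})
    (hH₁ : Q₁ ⊓ H ≠ ⊥) (hH₂ : Q₂ ⊓ H ≠ ⊥) :
    ∃ k ∈ piCoreOf (piOf (Nat.card A))ᶜ (𝐂 A), Q₂ = k •ᶜ Q₁ := by
  have := Fact.mk hq
  have hqπ : q ∈ (piOf (Nat.card A))ᶜ := bg7_not_mem_piOf hqA
  induction hn : Nat.card G - Nat.card (Q₁ ⊓ Q₂ : Subgroup G) using Nat.strong_induction_on
    generalizing Q₁ Q₂ H with
  | _ n ih =>
  by_cases hQ : Q₁ = Q₂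
  · exact ⟨1, Subgroup.one_mem _, by rw [conj_one_smul, hQ]⟩
  obtain ⟨hq₁, hA₁⟩ := mem_max_normed h₁
  obtain ⟨hq₂, hA₂⟩ := mem_max_normed h₂
  have hlt₁ : Q₁ ⊓ Q₂ < Q₁ := lt_of_le_of_ne inf_le_left fun e =>
    hQ (max_normed_max h₁ hq₂ hA₂ (inf_eq_left.1 e)).symm
  have hlt₂ : Q₁ ⊓ Q₂ < Q₂ := lt_of_le_of_ne inf_le_right fun e =>
    hQ (max_normed_max h₂ hq₁ hA₁ (inf_eq_right.1 e))
  obtain ⟨H, hAH, hH, hl₁, hl₂⟩ : ∃ H : Subgroup G, A ≤ H ∧ Loc H ∧ Q₁ ⊓ Q₂ < Q₁ ⊓ H ∧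
      Q₁ ⊓ Q₂ < Q₂ ⊓ H := by
    by_cases h0 : Q₁ ⊓ Q₂ = ⊥
    · exact ⟨H, hAH, hH, h0 ▸ bot_lt_iff_ne_bot.2 hH₁, h0 ▸ bot_lt_iff_ne_bot.2 hH₂⟩
    · refine ⟨𝐍 (Q₁ ⊓ Q₂), normsI hA₁ hA₂, X10.norm_ne_top hG h0 ?_, ?_, ?_⟩
      · exact dg_of_pi (pgroupS inf_le_left hq₁) (hA.dlq q Q₁ hq hq₁ (subG1_contra inf_le_left h0) hA₁)
      · exact nilpotent_proper_norm (pgroup_nil (pgroup_iff.1 hq₁)) hlt₁
      · exact nilpotent_proper_norm (pgroup_nil (pgroup_iff.1 hq₂)) hlt₂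
  set L := piCoreOf (piOf (Nat.card A))ᶜ H with hL
  have hLH : L ≤ H := pcore_sub _ _
  have hAL : A ≤ 𝐍 L := norms_pcore _ (normsG hAH)
  have hco : (Nat.card L).Coprime (Nat.card A) := p'nat_coprime (pcore_pgroup _ _) (pgroup_pi A)
  have hsol : Group.IsSolvable L := solvableS hLH (X10.sol hG hH)
  have Qsyl : ∀ Q : Subgroup G, IsPiSubgroup {q} Q → A ≤ 𝐍 Q →
      ∃ R : Subgroup G, IsSylowOf q R L ∧ A ≤ 𝐍 R ∧ Q ⊓ H ≤ R := by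
    intro Q hQ hAQ
    have hn : A ≤ 𝐍 (Q ⊓ H) := normsI hAQ (normsG hAH)
    have hp : IsPiSubgroup {q} (Q ⊓ H) := pgroupS inf_le_left hQ
    exact bg7_Hall_subset hAL hco hsol
      (hA.le_core H _ hAH hH inf_le_right (pi_singleton_pgroup hp hqπ) hn) hp hn
  obtain ⟨R₁, hR₁, hAR₁, hQR₁⟩ := Qsyl Q₁ hq₁ hA₁
  obtain ⟨R₂, hR₂, hAR₂, hQR₂⟩ := Qsyl Q₂ hq₂ hA₂
  obtain ⟨h, hh, hR⟩ := bg7_Hall_trans hAL hco hsol hR₂ hAR₂ hR₁ hAR₁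
  have hhH : h ∈ H := hLH hh.1
  have hhK : h ∈ piCoreOf (piOf (Nat.card A))ᶜ (𝐂 A) :=
    (sub_Hall_pcore (normed_constrained_Hall hG hA) (K := L ⊓ 𝐂 A) inf_le_right).2
      (pgroupS inf_le_left (pcore_pgroup _ _)) hh
  obtain ⟨Q₃, h₃, hRQ₃⟩ := max_normed_exists (pHall_pgroup hR₂) hAR₂
  have h₁h := cent_core_acts_max_norm hhK h₁
  have hs₁ : h •ᶜ (Q₁ ⊓ H) ≤ h •ᶜ Q₁ ⊓ Q₃ :=
    le_inf (conj_smul_mono h inf_le_left) ((conj_smul_mono h hQR₁).trans (hR ▸ hRQ₃))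
  have hs₂ : Q₂ ⊓ H ≤ Q₃ ⊓ Q₂ := le_inf (hQR₂.trans hRQ₃) inf_le_left
  have hc₁ := proper_card hl₁
  have hc₂ := proper_card hl₂
  have hn₁ : Q₁ ⊓ H ≠ ⊥ := ne_bot_of_gt hl₁
  have hn₂ : Q₂ ⊓ H ≠ ⊥ := ne_bot_of_gt hl₂
  have hn₃ : Q₃ ⊓ H ≠ ⊥ := subG1_contra (le_inf (hQR₂.trans hRQ₃) inf_le_right) hn₂
  have hn₁' : h •ᶜ Q₁ ⊓ H ≠ ⊥ := by
    rw [← conjGid hhH, ← conjIg, Ne, conj_smul_eq_bot_iff]
    exact hn₁
  have hd₁ := Subgroup.card_le_of_le hs₁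
  rw [card_conj_smul] at hd₁
  have hd₂ := Subgroup.card_le_of_le hs₂
  have he₁ := Subgroup.card_le_card_group (h •ᶜ Q₁ ⊓ Q₃)
  have he₂ := Subgroup.card_le_card_group (Q₃ ⊓ Q₂)
  obtain ⟨k, hk, e₁⟩ := ih _ (by omega) hAH hH h₁h h₃ hn₁' hn₃ rfl
  obtain ⟨l, hl, e₂⟩ := ih _ (by omega) hAH hH h₃ h₂ hn₃ hn₂ rfl
  refine ⟨l * (k * h), Subgroup.mul_mem _ hl (Subgroup.mul_mem _ hk hhK), ?_⟩
  rw [conj_mul_smul, conj_mul_smul, ← e₁, ← e₂]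

/-- B & G, Theorem 7.2. -/
theorem normed_constrained_rank3_trans (hG : Ctx G) {A : Subgroup G}
    (hA : NormedConstrained A) {q : ℕ} (hq : q.Prime) (hqA : ¬ q ∣ Nat.card A)
    (hZ : 3 ≤ rank (centerOf A)) :
    TransOn (piCoreOf (piOf (Nat.card A))ᶜ (𝐂 A)) (maxInvSubgroups ⊤ A {q}) := by
  obtain ⟨r, hr, B, hB⟩ := bg7_exists_elem (by norm_num) hZ
  have := Fact.mk hr
  have hBA : B ≤ A := (pnElem_sub hB).trans inf_le_left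
  have hqπ : q ∈ (piOf (Nat.card A))ᶜ := bg7_not_mem_piOf hqA
  intro Q₁ h₁ Q₂ h₂
  by_cases h0 : ⊥ ∈ maxInvSubgroups ⊤ A {q}
  · rw [trivg_max_norm h0] at h₁ h₂
    exact ⟨1, Subgroup.one_mem _, by rw [conj_one_smul, h₁, h₂]⟩
  have hn₁ : Q₁ ≠ ⊥ := fun e => h0 (e ▸ h₁)
  have hn₂ : Q₂ ≠ ⊥ := fun e => h0 (e ▸ h₂)
  obtain ⟨hq₁, hA₁⟩ := mem_max_normed h₁
  obtain ⟨hq₂, hA₂⟩ := mem_max_normed h₂
  have hc₁ : (Nat.card Q₁).Coprime (Nat.card A) :=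
    p'nat_coprime (pi_singleton_pgroup hq₁ hqπ) (pgroup_pi A)
  have hc₂ : (Nat.card Q₂).Coprime (Nat.card A) :=
    p'nat_coprime (pi_singleton_pgroup hq₂ hqπ) (pgroup_pi A)
  obtain ⟨C, hCB, ⟨a, ha, hCa⟩, hC⟩ : ∃ C : Subgroup G, C ≤ B ∧
      (∃ a ∈ B, C ⊔ Subgroup.zpowers a = B) ∧ Q₁ ⊓ 𝐂 C ≠ ⊥ := by
    by_contra hcon
    push Not at hcon
    exact hn₁ (le_bot_iff.1 (bg7_gen_cent (pnElem_abelian hB) (hBA.trans hA₁)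
      (coprimegS hBA hc₁) fun C h1 h2 => (hcon C h1 h2).le))
  have hnc := bg7_not_cyclic_of_rank3 (pnElem_abelem hB) (card_pnElem hB).ge hCB ha hCa
  obtain ⟨z, hz, hz1, hz2⟩ := bg7_exists_cent1_ne_bot (abelianS hCB (pnElem_abelian hB)) hnc
    ((hCB.trans hBA).trans hA₂) (coprimegS (hCB.trans hBA) hc₂) hn₂
  exact normed_constrained_meet_trans hG hA hq hqA
    (le_cent1_iff.2 (pnElem_sub hB (hCB hz)).2)
    (X10.cent1_ne_top hG hz1 (hA.ne_top.mem (hBA (hCB hz)))) h₁ h₂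
    (subG1_contra (inf_le_inf_left _ (cent_le_cent1 hz)) hC) hz2

/-- B & G, Theorem 7.3. -/
theorem normed_constrained_rank2_trans (hG : Ctx G) {A : Subgroup G}
    (hA : NormedConstrained A) {q : ℕ} (hq : q.Prime) (hqA : ¬ q ∣ Nat.card A)
    (hqC : q ∣ Nat.card (𝐂 A)) (hZ : 2 ≤ rank (centerOf A)) :
    TransOn (piCoreOf (piOf (Nat.card A))ᶜ (𝐂 A)) (maxInvSubgroups ⊤ A {q}) := by
  obtain ⟨r, hr, B, hB⟩ := bg7_exists_elem (by norm_num) hZ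
  have := Fact.mk hr
  have := Fact.mk hq
  have hBA : B ≤ A := (pnElem_sub hB).trans inf_le_left
  have hqπ : q ∈ (piOf (Nat.card A))ᶜ := bg7_not_mem_piOf hqA
  obtain ⟨R, hR⟩ := Sylow_exists q (𝐂 A)
  have hR1 : R ≠ ⊥ := Sylow_ne_bot hR hqC
  obtain ⟨Q₀, h₀, hRQ⟩ := max_normed_exists (A := A) (pHall_pgroup hR)
    (cents_norm (centsC.1 (pHall_sub hR)))
  have key : ∀ Q ∈ maxInvSubgroups ⊤ A {q},
      ∃ k ∈ piCoreOf (piOf (Nat.card A))ᶜ (𝐂 A), Q = k •ᶜ Q₀ := by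
    intro Q h
    have hn : Q ≠ ⊥ := by
      rintro rfl
      rw [trivg_max_norm h] at h₀
      exact subG1_contra hRQ hR1 h₀
    obtain ⟨hqQ, hAQ⟩ := mem_max_normed h
    have hc : (Nat.card Q).Coprime (Nat.card A) :=
      p'nat_coprime (pi_singleton_pgroup hqQ hqπ) (pgroup_pi A)
    obtain ⟨z, hz, hz1, hz2⟩ := bg7_exists_cent1_ne_bot (pnElem_abelian hB)
      (pnElem_not_cyclic hB le_rfl) (hBA.trans hAQ) (coprimegS hBA hc) hn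
    exact normed_constrained_meet_trans hG hA hq hqA
      (le_cent1_iff.2 (pnElem_sub hB hz).2) (X10.cent1_ne_top hG hz1 (hA.ne_top.mem (hBA hz))) h₀ h
      (subG1_contra (le_inf hRQ ((pHall_sub hR).trans (cent_le_cent1 (hBA hz)))) hR1) hz2
  intro Q₁ h₁ Q₂ h₂
  obtain ⟨k, hk, rfl⟩ := key Q₁ h₁
  obtain ⟨l, hl, rfl⟩ := key Q₂ h₂
  refine ⟨l * k⁻¹, Subgroup.mul_mem _ hl (Subgroup.inv_mem _ hk), ?_⟩
  rw [conj_mul_smul, conj_inv_smul_conj_smul]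

theorem normed_constrained_core_cent (hG : Ctx G) {A : Subgroup G}
    (hA : NormedConstrained A) {B : Subgroup G} (hAB : A ≤ B) :
    piCoreOf (piOf (Nat.card A))ᶜ (𝐂 A) ⊓ 𝐂 B = piCoreOf (piOf (Nat.card A))ᶜ (𝐂 B) :=
  le_antisymm (pcoreS _ (centS hAB)) (le_inf
    ((sub_Hall_pcore (normed_constrained_Hall hG hA) ((pcore_sub _ _).trans (centS hAB))).2
      (pcore_pgroup _ _)) (pcore_sub _ _))

theorem normed_constrained_max_normed_of_le (hG : Ctx G) {A : Subgroup G}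
    (hA : NormedConstrained A) {q : ℕ} (hq : q.Prime) (hqA : ¬ q ∣ Nat.card A) {X Y R : Subgroup G}
    (hAX : A ≤ X) (hXY : X ≤ Y) (hY : IsPiSubgroup (piOf (Nat.card A)) Y)
    (hR : R ∈ maxInvSubgroups ⊤ Y {q}) (hR1 : R ≠ ⊥) : R ∈ maxInvSubgroups ⊤ X {q} := by
  have := Fact.mk hq
  have hqπ : q ∈ (piOf (Nat.card A))ᶜ := bg7_not_mem_piOf hqA
  obtain ⟨hqR, hYR⟩ := mem_max_normed hR
  have hAR : A ≤ 𝐍 R := (hAX.trans hXY).trans hYR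
  have hN : Loc (𝐍 R) := X10.norm_ne_top hG hR1 (dg_of_pi hqR (hA.dlq q R hq hqR hR1 hAR))
  set L := piCoreOf (piOf (Nat.card A))ᶜ (𝐍 R) with hL
  have hYL : Y ≤ 𝐍 L := norms_pcore _ (normsG hYR)
  have hco : (Nat.card L).Coprime (Nat.card Y) := p'nat_coprime (pcore_pgroup _ _) hY
  have hsol : Group.IsSolvable L := solvableS (pcore_sub _ _) (X10.sol hG hN)
  obtain ⟨S, hS, hYS, hRS⟩ := bg7_Hall_subset hYL hco hsol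
    (hA.le_core _ _ hAR hN (normG R) (pi_singleton_pgroup hqR hqπ) hAR) hqR hYR
  have hSR : S = R := max_normed_max hR (pHall_pgroup hS) hYS hRS
  subst hSR
  refine mem_maxInvSubgroups_top.2 ⟨hqR, hXY.trans hYR, fun Q hQ hXQ hSQ => ?_⟩
  have h1 : IsPiSubgroup {q} (Q ⊓ 𝐍 S) := pgroupS inf_le_left hQ
  have h2 : Q ⊓ 𝐍 S ≤ L := hA.le_core _ _ hAR hN inf_le_right (pi_singleton_pgroup h1 hqπ)
    (normsI (hAX.trans hXQ) (normsG hAR))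
  exact (nilpotent_sub_norm (pgroup_nil (pgroup_iff.1 hQ)) hSQ
    (sub_pHall hS h1 (le_inf hSQ (normG S)) h2).le).symm

/-- B & G, Theorem 7.4. -/
theorem normed_trans_superset (hG : Ctx G) {A : Subgroup G}
    (hA : NormedConstrained A) {q : ℕ} (hq : q.Prime) (hqA : ¬ q ∣ Nat.card A) {P : Subgroup G}
    (hAP : SubnormalIn A P) (hP : IsPiSubgroup (piOf (Nat.card A)) P)
    (htr : TransOn (piCoreOf (piOf (Nat.card A))ᶜ (𝐂 A)) (maxInvSubgroups ⊤ A {q})) :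
    piCoreOf (piOf (Nat.card A))ᶜ (𝐂 A) ⊓ 𝐂 P = piCoreOf (piOf (Nat.card A))ᶜ (𝐂 P) ∧
    TransOn (piCoreOf (piOf (Nat.card A))ᶜ (𝐂 P)) (maxInvSubgroups ⊤ P {q}) ∧
    maxInvSubgroups ⊤ P {q} ⊆ maxInvSubgroups ⊤ A {q} ∧
    ∀ Q ∈ maxInvSubgroups ⊤ P {q}, P ⊓ ⁅𝐍 P, 𝐍 P⁆ ≤ ⁅𝐍 Q, 𝐍 Q⁆ ∧
      𝐍 P = (piCoreOf (piOf (Nat.card A))ᶜ (𝐂 A) ⊓ 𝐂 P) ⊔ (𝐍 P ⊓ 𝐍 Q) := by
  have hdef := fun B : Subgroup G => normed_constrained_core_cent hG hA (B := B)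
  have hmain : TransOn (piCoreOf (piOf (Nat.card A))ᶜ (𝐂 P)) (maxInvSubgroups ⊤ P {q}) ∧
      maxInvSubgroups ⊤ P {q} ⊆ maxInvSubgroups ⊤ A {q} := by
    refine hAP.induction (P := fun X => A ≤ X →
      (TransOn (piCoreOf (piOf (Nat.card A))ᶜ (𝐂 X)) (maxInvSubgroups ⊤ X {q}) ∧
        maxInvSubgroups ⊤ X {q} ⊆ maxInvSubgroups ⊤ A {q}) →
      TransOn (piCoreOf (piOf (Nat.card A))ᶜ (𝐂 P)) (maxInvSubgroups ⊤ P {q}) ∧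
        maxInvSubgroups ⊤ P {q} ⊆ maxInvSubgroups ⊤ A {q}) (fun _ h => h) ?_ le_rfl
      ⟨htr, subset_rfl⟩
    intro X Y hXY hYX hYP ih hAX ⟨htX, hsX⟩
    apply ih (hAX.trans hXY)
    have hY : IsPiSubgroup (piOf (Nat.card A)) Y := pgroupS hYP.le hP
    have hYK : Y ≤ 𝐍 (piCoreOf (piOf (Nat.card A))ᶜ (𝐂 X)) := norms_pcore _ (norms_cent hYX)
    have hco : (Nat.card Y).Coprime (Nat.card (piCoreOf (piOf (Nat.card A))ᶜ (𝐂 X))) :=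
      pnat_coprime hY (pcore_pgroup _ _)
    have hsol : Group.IsSolvable (piCoreOf (piOf (Nat.card A))ᶜ (𝐂 X)) :=
      solvableS (pcore_sub _ _) (X10.sol hG ((X10.cent_ne_top hG hA.ne_bot hA.ne_top).mono (centS hAX)))
    have hsub : maxInvSubgroups ⊤ Y {q} ⊆ maxInvSubgroups ⊤ X {q} := by
      intro R hR
      by_cases hR1 : R = ⊥
      · subst hR1
        obtain ⟨Q, hQ⟩ := max_normed_nonempty X {q}
        obtain ⟨k, hk, hYQ⟩ := Coprime.exists_conj_invariant hYK hco (Or.inr hsol) (P := Q)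
          fun y hy => by
            obtain ⟨k, hk, e⟩ := htX Q hQ _ (norm_acts_max_norm (hYX hy) hQ)
            exact ⟨k, hk, e.symm⟩
        have hkQ := cent_core_acts_max_norm hk hQ
        rwa [max_normed_max hR (mem_max_normed hkQ).1 hYQ bot_le] at hkQ
      · exact normed_constrained_max_normed_of_le hG hA hq hqA hAX hXY hY hR hR1
    refine ⟨fun Q₁ h₁ Q₂ h₂ => ?_, hsub.trans hsX⟩
    obtain ⟨k, hk, rfl⟩ := htX Q₁ (hsub h₁) Q₂ (hsub h₂)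
    obtain ⟨c, hc, e⟩ := Coprime.exists_centralizer_conj_eq hYK hco (Or.inr hsol) hk
      (mem_max_normed h₁).2 (mem_max_normed h₂).2
    refine ⟨c, ?_, e.symm⟩
    rw [← hdef Y (hAX.trans hXY)]
    rw [← hdef X hAX] at hc
    exact ⟨hc.1.1, hc.2⟩
  refine ⟨hdef P hAP.le, hmain.1, hmain.2, fun Q hQ => ?_⟩
  rw [hdef P hAP.le]
  have hKN : piCoreOf (piOf (Nat.card A))ᶜ (𝐂 P) ≤ 𝐍 P := (pcore_sub _ _).trans (cent_sub P)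
  have hN : piCoreOf (piOf (Nat.card A))ᶜ (𝐂 P) ⊔ (𝐍 P ⊓ 𝐍 Q) = 𝐍 P := by
    refine le_antisymm (sup_le hKN inf_le_left) fun g hg => ?_
    obtain ⟨k, hk, e⟩ := hmain.1 Q hQ _ (norm_acts_max_norm hg hQ)
    have h1 : k⁻¹ * g ∈ 𝐍 P ⊓ 𝐍 Q := by
      refine ⟨Subgroup.mul_mem _ (Subgroup.inv_mem _ (hKN hk)) hg, normP.2 ?_⟩
      rw [conj_mul_smul, e, conj_inv_smul_conj_smul]
    have := Subgroup.mul_mem_sup hk h1
    rwa [mul_inv_cancel_left] at this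
  refine ⟨?_, hN.symm⟩
  rw [pprod_focal_coprime hN (norms_pcore _ (norms_cent le_rfl))
    (le_inf (normG P) (mem_max_normed hQ).2) (p'nat_coprime (pcore_pgroup _ _) hP)]
  exact inf_le_right.trans (dergS inf_le_right)

end Cfsg.Lib.FT.PG
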